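import Groth.Agent.Lie3.WeightBasis
import Groth.Prelude.Def_W4c1bouilletffgsL3

/-!
A weight basis of the ideal `J` of the second component of the scheme of 3-dimensional Lie algebras,
over an arbitrary base ring; `L2 = b + f` is a non-zero-divisor modulo `J`.
-/

universe u

namespace Groth.Lie3

open MvPolynomial

variable (A : Type u) [CommRing A]

/-- Monomial with the given exponents. -/
noncomputable def mon {n : ℕ} (v : Fin n → ℕ) : MvPolynomial (Fin n) A := ∏ k, X k ^ v k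

/-- Exponent vector as a finsupp. -/
noncomputable def ex {n : ℕ} (v : Fin n → ℕ) : Fin n →₀ ℕ := Finsupp.equivFunOnFinite.symm v

theorem ex_apply {n : ℕ} (v : Fin n → ℕ) (k : Fin n) : ex v k = v k := rfl

theorem ex_inj {n : ℕ} {v v' : Fin n → ℕ} : ex v = ex v' ↔ v = v' :=
  Finsupp.equivFunOnFinite.symm.injective.eq_iff

theorem ex_add {n : ℕ} (v v' : Fin n → ℕ) : ex v + ex v' = ex (v + v') := by
  ext k; simp [ex_apply]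

theorem mon_eq {n : ℕ} (v : Fin n → ℕ) : mon A v = monomial (ex v) 1 := by
  rw [mon, monomial_eq, C_1, one_mul, Finsupp.prod_fintype _ _ (fun k => pow_zero _)]
  rfl

theorem weight_ex {n : ℕ} (w v : Fin n → ℕ) : Finsupp.weight w (ex v) = ∑ k, v k * w k := by
  rw [Finsupp.weight_apply, Finsupp.sum_fintype _ _ (fun k => by simp)]
  rfl

/-- Leading monomial plus tail. -/
noncomputable def ofTerms {n : ℕ} (v : Fin n → ℕ) (l : List (ℤ × (Fin n → ℕ))) :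
    MvPolynomial (Fin n) A :=
  mon A v + (l.map fun p => (p.1 : MvPolynomial (Fin n) A) * mon A p.2).sum

theorem coeff_tail {n : ℕ} (l : List (ℤ × (Fin n → ℕ))) (t : Fin n →₀ ℕ)
    (h : ∀ p ∈ l, ex p.2 ≠ t) :
    coeff t (l.map fun p => (p.1 : MvPolynomial (Fin n) A) * mon A p.2).sum = 0 := by
  induction l with
  | nil => simp
  | cons p l ih =>
    rw [List.map_cons, List.sum_cons, coeff_add, ih fun q hq => h q (List.mem_cons_of_mem _ hq),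
      add_zero, mon_eq, ← map_intCast (C : A →+* MvPolynomial (Fin n) A), C_mul_monomial, coeff_monomial, if_neg (h p (List.mem_cons_self ..))]

theorem coeff_ofTerms_self {n : ℕ} (w v : Fin n → ℕ) (l : List (ℤ × (Fin n → ℕ)))
    (h : ∀ p ∈ l, ∑ k, p.2 k * w k < ∑ k, v k * w k) : coeff (ex v) (ofTerms A v l) = 1 := by
  rw [ofTerms, coeff_add, mon_eq, coeff_monomial, if_pos rfl, coeff_tail, add_zero]
  intro p hp e
  have := h p hp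
  rw [ex_inj.mp e] at this
  exact lt_irrefl _ this

theorem coeff_ofTerms_eq_zero {n : ℕ} (w v : Fin n → ℕ) (l : List (ℤ × (Fin n → ℕ)))
    (h : ∀ p ∈ l, ∑ k, p.2 k * w k < ∑ k, v k * w k) (t : Fin n →₀ ℕ) (ht : t ≠ ex v)
    (hw : Finsupp.weight w (ex v) ≤ Finsupp.weight w t) : coeff t (ofTerms A v l) = 0 := by
  rw [ofTerms, coeff_add, mon_eq, coeff_monomial, if_neg ht.symm, zero_add, coeff_tail]
  intro p hp e
  have := h p hp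
  rw [← weight_ex, ← weight_ex, e] at this
  exact (this.trans_le hw).false

/-- The weights. -/
def wgt : Fin 9 → ℕ := ![3, 1, 1, 3, 3, 0, 0, 1, 0]

/-- tails of the basis elements -/
def tailTbl : Fin 5 → List (ℤ × (Fin 9 → ℕ)) :=
  ![[(1, ![0, 0, 0, 1, 0, 0, 0, 0, 1]),
      (-1, ![0, 1, 0, 0, 0, 0, 1, 0, 0]),
      (-1, ![0, 0, 0, 0, 0, 1, 1, 0, 0])],
    [(-1, ![0, 1, 0, 1, 0, 0, 0, 0, 0]),
      (-1, ![0, 0, 0, 0, 1, 0, 0, 0, 1]),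
      (1, ![0, 0, 0, 0, 0, 1, 0, 1, 0])],
    [(-1, ![1, 0, 0, 0, 0, 1, 0, 0, 0]),
      (1, ![0, 0, 1, 0, 0, 0, 0, 1, 0]),
      (-1, ![0, 1, 0, 0, 0, 0, 0, 0, 1])],
    [(1, ![0, 0, 1, 0, 0, 0, 0, 2, 0]),
      (-1, ![0, 0, 0, 0, 1, 0, 0, 0, 2]),
      (-1, ![0, 1, 0, 0, 0, 0, 0, 1, 1]),
      (-1, ![0, 1, 0, 0, 0, 1, 1, 0, 0]),
      (1, ![0, 0, 0, 0, 0, 1, 0, 1, 1])],
    [(1, ![0, 1, 0, 1, 0, 0, 0, 1, 0]),
      (-1, ![0, 1, 0, 0, 1, 0, 1, 0, 0]),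
      (1, ![0, 0, 0, 0, 1, 0, 0, 1, 1]),
      (-1, ![0, 0, 0, 0, 1, 1, 1, 0, 0]),
      (-1, ![0, 0, 0, 0, 0, 1, 0, 2, 0])]]

/-- leading exponents -/
def leadTbl : Fin 5 → Fin 9 → ℕ :=
  ![![1, 0, 0, 0, 0, 0, 0, 1, 0],
    ![1, 0, 0, 0, 1, 0, 0, 0, 0],
    ![0, 0, 1, 1, 0, 0, 0, 0, 0],
    ![0, 0, 1, 0, 1, 0, 1, 0, 0],
    ![0, 0, 0, 1, 1, 0, 0, 0, 1]]

/-- reductions of the S-polynomials -/
def spTbl : Fin 5 → Fin 5 → List (ℤ × (Fin 9 → ℕ) × Fin 5) :=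
  ![![[],
      [(1, ![0, 0, 0, 0, 0, 0, 0, 0, 0], 4)],
      [(1, ![1, 0, 0, 0, 0, 1, 0, 0, 0], 0), (1, ![0, 0, 0, 1, 0, 0, 0, 0, 1], 2), (-1, ![0, 0, 1, 0, 0, 0, 0, 1, 0], 0), (1, ![0, 1, 0, 0, 0, 0, 0, 0, 1], 0), (-1, ![0, 1, 0, 0, 0, 0, 1, 0, 0], 2), (-1, ![0, 0, 0, 0, 0, 1, 1, 0, 0], 2)],
      [(-1, ![0, 0, 1, 0, 0, 0, 0, 2, 0], 0), (1, ![0, 0, 0, 0, 1, 0, 0, 0, 2], 0), (1, ![0, 0, 0, 0, 1, 0, 1, 0, 1], 2), (1, ![0, 1, 0, 0, 0, 0, 0, 1, 1], 0), (1, ![0, 0, 0, 0, 0, 1, 1, 0, 1], 1), (1, ![0, 0, 0, 0, 0, 0, 0, 2, 1], 2), (-1, ![0, 0, 0, 0, 0, 0, 0, 0, 2], 4), (1, ![0, 1, 0, 0, 0, 1, 1, 0, 0], 0), (-1, ![0, 1, 0, 0, 0, 0, 1, 0, 0], 3), (-1, ![0, 0, 0, 0, 0, 0, 0, 1, 1], 3), (-1, ![0, 0, 0, 0, 0, 1, 1, 0, 0], 3)],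
      [(-1, ![0, 1, 0, 1, 0, 0, 0, 1, 0], 0), (1, ![0, 0, 0, 1, 0, 0, 0, 0, 1], 4), (1, ![0, 1, 0, 0, 1, 0, 1, 0, 0], 0), (-1, ![0, 0, 0, 0, 1, 0, 0, 1, 1], 0), (1, ![0, 0, 0, 0, 1, 1, 1, 0, 0], 0), (-1, ![0, 1, 0, 0, 0, 0, 1, 0, 0], 4), (1, ![0, 0, 0, 0, 0, 1, 0, 2, 0], 0), (-1, ![0, 0, 0, 0, 0, 1, 1, 0, 0], 4)]],
    ![[],
      [],
      [(1, ![1, 0, 0, 0, 0, 1, 0, 0, 0], 1), (-1, ![0, 0, 1, 0, 1, 0, 0, 0, 0], 0), (-1, ![0, 1, 0, 1, 0, 0, 0, 0, 0], 2), (1, ![0, 1, 0, 0, 0, 0, 0, 0, 1], 1), (1, ![0, 0, 0, 0, 0, 1, 0, 0, 1], 1), (1, ![0, 1, 0, 0, 0, 0, 0, 1, 0], 2), (1, ![0, 1, 0, 0, 0, 1, 0, 0, 0], 0), (-1, ![0, 1, 0, 0, 0, 0, 0, 0, 0], 3), (1, ![0, 0, 0, 0, 0, 1, 0, 1, 0], 2), (-1, ![0, 0, 0, 0, 0, 1, 0, 0, 0], 3)],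
      [(-1, ![0, 0, 1, 0, 0, 0, 0, 1, 0], 0), (1, ![0, 0, 0, 0, 0, 0, 0, 0, 2], 1), (1, ![0, 1, 0, 0, 0, 0, 0, 0, 1], 0), (-1, ![0, 1, 0, 0, 0, 0, 1, 0, 0], 2), (1, ![0, 0, 0, 0, 0, 0, 0, 1, 1], 2), (-1, ![0, 0, 0, 0, 0, 0, 0, 0, 1], 3)],
      [(-1, ![0, 1, 0, 1, 0, 0, 0, 0, 0], 0), (1, ![0, 1, 0, 0, 0, 0, 1, 0, 0], 1), (-1, ![0, 0, 0, 0, 1, 0, 0, 0, 1], 0), (1, ![0, 0, 0, 0, 0, 1, 1, 0, 0], 1), (1, ![0, 0, 0, 0, 0, 1, 0, 1, 0], 0)]],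
    ![[],
      [],
      [],
      [(-1, ![0, 0, 0, 0, 0, 1, 1, 0, 0], 1), (-1, ![0, 0, 0, 0, 0, 0, 0, 2, 0], 2), (1, ![0, 0, 0, 0, 0, 0, 0, 0, 1], 4), (-1, ![0, 0, 0, 0, 0, 1, 0, 1, 0], 0), (1, ![0, 0, 0, 0, 0, 0, 0, 1, 0], 3)],
      [(-1, ![0, 0, 0, 0, 0, 1, 0, 0, 1], 1), (-1, ![0, 1, 0, 0, 0, 0, 0, 1, 0], 2), (-1, ![0, 1, 0, 0, 0, 1, 0, 0, 0], 0), (1, ![0, 1, 0, 0, 0, 0, 0, 0, 0], 3), (1, ![0, 0, 0, 0, 0, 1, 0, 0, 0], 3)]],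
    ![[],
      [],
      [],
      [],
      [(-1, ![0, 1, 0, 0, 0, 0, 1, 1, 0], 2), (1, ![0, 0, 0, 0, 0, 0, 0, 2, 1], 2), (-1, ![0, 0, 0, 0, 0, 0, 0, 0, 2], 4), (-1, ![0, 1, 0, 0, 0, 1, 1, 0, 0], 0), (1, ![0, 0, 0, 0, 0, 1, 0, 1, 1], 0), (1, ![0, 1, 0, 0, 0, 0, 1, 0, 0], 3), (-1, ![0, 0, 0, 0, 0, 0, 0, 1, 1], 3), (1, ![0, 0, 0, 0, 0, 1, 1, 0, 0], 3)]],
    ![[],
      [],
      [],
      [],
      []]]

theorem tail_small : ∀ i, ∀ p ∈ tailTbl i, ∑ k, p.2 k * wgt k < ∑ k, leadTbl i k * wgt k := by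
  decide

/-- The basis. -/
noncomputable def gTbl (i : Fin 5) : MvPolynomial (Fin 9) A := ofTerms A (leadTbl i) (tailTbl i)

/-- The weight basis of `J`. -/
noncomputable def basisJ : WB (Fin 9) A (Fin 5) where
  w := wgt
  G := gTbl A
  m i := ex (leadTbl i)
  lead i := coeff_ofTerms_self A wgt _ _ (tail_small i)
  small i t ht hw := coeff_ofTerms_eq_zero A wgt _ _ (tail_small i) t ht hw

theorem sp_small : ∀ i j, ∀ q ∈ spTbl i j, ∑ k, q.2.1 k * wgt k + ∑ k, leadTbl q.2.2 k * wgt k <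
    ∑ k, max (leadTbl i k) (leadTbl j k) * wgt k := by
  decide

theorem sp_identity : ∀ i j, i < j →
    mon A (fun k => max (leadTbl i k) (leadTbl j k) - leadTbl i k) * gTbl A i -
      mon A (fun k => max (leadTbl i k) (leadTbl j k) - leadTbl j k) * gTbl A j =
    ((spTbl i j).map fun q => (q.1 : MvPolynomial (Fin 9) A) * (mon A q.2.1 * gTbl A q.2.2)).sum := by
  intro i j hij
  fin_cases i <;> fin_cases j <;> (try exact absurd hij (by decide)) <;>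
    · simp [gTbl, ofTerms, mon, spTbl, tailTbl, leadTbl, Fin.prod_univ_succ]
      ring

theorem sPairs : (basisJ A).SPairs := by
  suffices H : ∀ i j, i ≤ j → monomial (ex fun k => max (leadTbl i k) (leadTbl j k) - leadTbl i k) 1 *
      gTbl A i - monomial (ex fun k => max (leadTbl i k) (leadTbl j k) - leadTbl j k) 1 * gTbl A j ∈
      (basisJ A).V ((basisJ A).wt (ex fun k => max (leadTbl i k) (leadTbl j k))) by
    intro i j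
    refine ⟨ex fun k => max (leadTbl i k) (leadTbl j k),
      ex fun k => max (leadTbl i k) (leadTbl j k) - leadTbl i k,
      ex fun k => max (leadTbl i k) (leadTbl j k) - leadTbl j k, ?_, ?_, ?_, ?_⟩
    · ext k; exact Nat.sub_add_cancel (le_max_left _ _)
    · ext k; exact Nat.sub_add_cancel (le_max_right _ _)
    · exact fun δ h h' k => max_le (h k) (h' k)
    · rcases le_total i j with h | h
      · exact H i j h
      · have := H j i h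
        simp only [max_comm (leadTbl j _)] at this
        rw [← neg_sub]
        exact neg_mem this
  intro i j hij
  rcases hij.lt_or_eq with hlt | rfl
  · rw [← mon_eq, ← mon_eq, sp_identity A i j hlt]
    refine list_sum_mem fun x hx => ?_
    obtain ⟨q, hq, rfl⟩ := List.mem_map.mp hx
    rw [← map_intCast (C : A →+* MvPolynomial (Fin 9) A), ← smul_eq_C_mul, mon_eq]
    refine Submodule.smul_mem _ _ (WB.mem_V (B := basisJ A) ?_)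
    change Finsupp.weight wgt _ + Finsupp.weight wgt (ex (leadTbl q.2.2)) < Finsupp.weight wgt _
    rw [weight_ex, weight_ex, weight_ex]
    exact sp_small i j q hq
  · rw [sub_self]
    exact zero_mem _

open _root_.Lie3Mod in
theorem span_eq : Ideal.span (Set.range (gTbl A)) = idJ A := by
  have h0 : gTbl A 0 = Q1 A := by
    simp [gTbl, ofTerms, mon, tailTbl, leadTbl, Fin.prod_univ_succ, Q1]; ring
  have h1 : gTbl A 1 = - Q2 A := by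
    simp [gTbl, ofTerms, mon, tailTbl, leadTbl, Fin.prod_univ_succ, Q2]; ring
  have h2 : gTbl A 2 = Q3 A := by
    simp [gTbl, ofTerms, mon, tailTbl, leadTbl, Fin.prod_univ_succ, Q3]; ring
  have h3 : gTbl A 3 = - detM A := by
    simp [gTbl, ofTerms, mon, tailTbl, leadTbl, Fin.prod_univ_succ, detM]; ring
  have h4 : gTbl A 4 = ve * Q1 A + vh * Q2 A := by
    simp [gTbl, ofTerms, mon, tailTbl, leadTbl, Fin.prod_univ_succ, Q1, Q2]; ring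
  have hm : ∀ k, gTbl A k ∈ Ideal.span (Set.range (gTbl A)) := fun k => Ideal.subset_span ⟨k, rfl⟩
  refine le_antisymm (Ideal.span_le.mpr ?_) (Ideal.span_le.mpr ?_)
  · rintro _ ⟨k, rfl⟩
    have hq : ∀ q ∈ ({Q1 A, Q2 A, Q3 A, detM A} : Set (Lie3Mod.D A)), q ∈ idJ A :=
      fun q hq => Ideal.subset_span hq
    fin_cases k
    · exact h0 ▸ hq _ (by simp)
    · exact h1 ▸ neg_mem (hq _ (by simp))
    · exact h2 ▸ hq _ (by simp)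
    · exact h3 ▸ neg_mem (hq _ (by simp))
    · exact h4 ▸ add_mem (Ideal.mul_mem_left _ _ (hq _ (by simp)))
        (Ideal.mul_mem_left _ _ (hq _ (by simp)))
  · rintro q (rfl | rfl | rfl | rfl)
    · exact h0 ▸ hm 0
    · exact neg_neg (Q2 A) ▸ neg_mem (h1 ▸ hm 1)
    · exact h2 ▸ hm 2
    · exact neg_neg (detM A) ▸ neg_mem (h3 ▸ hm 3)

theorem L2_eq : ofTerms A ![0, 1, 0, 0, 0, 0, 0, 0, 0] [(1, ![0, 0, 0, 0, 0, 1, 0, 0, 0])] =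
    Lie3Mod.L2 A := by
  simp [ofTerms, mon, Fin.prod_univ_succ, Lie3Mod.L2]

/-- `b + f` is a non-zero-divisor modulo `J`. -/
theorem mem_idJ_of_L2_mul_mem {x : Lie3Mod.D A} (h : Lie3Mod.L2 A * x ∈ Lie3Mod.idJ A) :
    x ∈ Lie3Mod.idJ A := by
  rw [← span_eq, ← L2_eq] at h
  rw [← span_eq]
  have hsm : ∀ p ∈ [((1 : ℤ), (![0, 0, 0, 0, 0, 1, 0, 0, 0] : Fin 9 → ℕ))],
      ∑ k, p.2 k * wgt k < ∑ k, (![0, 1, 0, 0, 0, 0, 0, 0, 0] : Fin 9 → ℕ) k * wgt k := by decide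
  refine WB.mem_of_mul_mem (B := basisJ A) (sPairs A) (coeff_ofTerms_self A wgt _ _ hsm)
    (fun t ht hw => coeff_ofTerms_eq_zero A wgt _ _ hsm t ht hw) (fun i s => ?_) h
  exact (by decide : ∀ i s, (![0, 1, 0, 0, 0, 0, 0, 0, 0] : Fin 9 → ℕ) s = 0 ∨ leadTbl i s = 0) i s

end Groth.Lie3
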