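import Groth.Agent.Lie3.Basis
import Mathlib.RingTheory.Localization.Away.Basic
import Mathlib.RingTheory.Ideal.Quotient.Operations
import Mathlib.RingTheory.Ideal.Colon

/-!
The two components `V(J)`, `V(L)` of the scheme of 3-dimensional Lie algebras.
-/

universe u

namespace Groth.Lie3

open MvPolynomial
open _root_.Lie3Mod

variable (A : Type u) [CommRing A]

theorem Q_mem_idI : Q1 A ∈ idI A ∧ Q2 A ∈ idI A ∧ Q3 A ∈ idI A :=
  ⟨Ideal.subset_span (by simp), Ideal.subset_span (by simp), Ideal.subset_span (by simp)⟩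

theorem idI_le_idJ : idI A ≤ idJ A := Ideal.span_mono (fun x hx => by
  rcases hx with rfl | rfl | rfl <;> simp)

theorem detM_mem_idJ : detM A ∈ idJ A := Ideal.subset_span (by simp)

theorem idJ_eq : idJ A = idI A ⊔ Ideal.span {detM A} := by
  rw [idJ, idI, ← Ideal.span_union]
  congr 1
  ext x
  simp [or_assoc]
  tauto

theorem idI_le_idL : idI A ≤ idL A := by
  have h1 : L1 A ∈ idL A := Ideal.subset_span (by simp)
  have h2 : L2 A ∈ idL A := Ideal.subset_span (by simp)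
  have h3 : L3 A ∈ idL A := Ideal.subset_span (by simp)
  refine Ideal.span_le.mpr ?_
  rintro q (rfl | rfl | rfl)
  · have : Q1 A = vh * L1 A + -vg * L2 A + vi * L3 A := by simp only [Q1, L1, L2, L3]; ring
    exact this ▸ add_mem (add_mem (Ideal.mul_mem_left _ _ h1) (Ideal.mul_mem_left _ _ h2))
      (Ideal.mul_mem_left _ _ h3)
  · have : Q2 A = -ve * L1 A + -vh * L2 A + vb * L3 A := by simp only [Q2, L1, L2, L3]; ring
    exact this ▸ add_mem (add_mem (Ideal.mul_mem_left _ _ h1) (Ideal.mul_mem_left _ _ h2))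
      (Ideal.mul_mem_left _ _ h3)
  · have : Q3 A = -vf * L1 A + -vi * L2 A + vc * L3 A := by simp only [Q3, L1, L2, L3]; ring
    exact this ▸ add_mem (add_mem (Ideal.mul_mem_left _ _ h1) (Ideal.mul_mem_left _ _ h2))
      (Ideal.mul_mem_left _ _ h3)

theorem L_mul_detM_mem {l : Lie3Mod.D A} (hl : l ∈ idL A) : l * detM A ∈ idI A := by
  obtain ⟨h1, h2, h3⟩ := Q_mem_idI A
  suffices h : idL A ≤ Submodule.comap (LinearMap.mulRight (Lie3Mod.D A) (detM A)) (idI A) from h hl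
  refine Ideal.span_le.mpr ?_
  rintro q (rfl | rfl | rfl)
  · have : L1 A * detM A = (-vh * vc + vb * vi) * Q1 A + (vg * vc - vi * vi) * Q2 A +
        (-vg * vb + vh * vi) * Q3 A := by simp only [Q1, Q2, Q3, L1, detM]; ring
    change L1 A * detM A ∈ idI A
    exact this ▸ add_mem (add_mem (Ideal.mul_mem_left _ _ h1) (Ideal.mul_mem_left _ _ h2))
      (Ideal.mul_mem_left _ _ h3)
  · have : L2 A * detM A = (ve * vc - vb * vf) * Q1 A + (vh * vc + vi * vf) * Q2 A +
        (-vh * vb - vi * ve) * Q3 A := by simp only [Q1, Q2, Q3, L2, detM]; ring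
    change L2 A * detM A ∈ idI A
    exact this ▸ add_mem (add_mem (Ideal.mul_mem_left _ _ h1) (Ideal.mul_mem_left _ _ h2))
      (Ideal.mul_mem_left _ _ h3)
  · have : L3 A * detM A = (ve * vi - vh * vf) * Q1 A + (vh * vi + vg * vf) * Q2 A +
        (-vh * vh - vg * ve) * Q3 A := by simp only [Q1, Q2, Q3, L3, detM]; ring
    change L3 A * detM A ∈ idI A
    exact this ▸ add_mem (add_mem (Ideal.mul_mem_left _ _ h1) (Ideal.mul_mem_left _ _ h2))
      (Ideal.mul_mem_left _ _ h3)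

section component

/-- The coordinate ring of the open part `b + f ≠ 0` of the second component. -/
abbrev T := Localization.Away (X 1 : MvPolynomial (Fin 6) A)

/-- the coordinates -/
noncomputable abbrev cU (k : Fin 6) : T A := algebraMap (MvPolynomial (Fin 6) A) (T A) (X k)

/-- the inverse of `b + f` -/
noncomputable abbrev cR : T A := IsLocalization.Away.invSelf (X 1 : MvPolynomial (Fin 6) A)

theorem cU_mul_cR : cU A 1 * cR A = 1 := IsLocalization.Away.mul_invSelf _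

/-- The parametrisation. -/
noncomputable def φ : Lie3Mod.D A →ₐ[A] T A :=
  aeval ![cU A 0 + (-cU A 5 * cU A 0 + cU A 3 * cU A 2) * cR A,
    cU A 1 - cU A 5,
    cU A 3,
    cU A 2 - (-cU A 4 * cU A 0 + (cU A 1 - cU A 5) * cU A 2) * cR A,
    cU A 4,
    cU A 5,
    ((-cU A 4 * cU A 0 + (cU A 1 - cU A 5) * cU A 2) * cR A * cU A 0 +
      (-cU A 5 * cU A 0 + cU A 3 * cU A 2) * cR A * cU A 2) * cR A,
    (-cU A 4 * cU A 0 + (cU A 1 - cU A 5) * cU A 2) * cR A,
    (-cU A 5 * cU A 0 + cU A 3 * cU A 2) * cR A]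

theorem φ_L : φ A (L1 A) = cU A 0 ∧ φ A (L2 A) = cU A 1 ∧ φ A (L3 A) = cU A 2 := by
  simp [φ, L1, L2, L3]

theorem φ_idI : idI A ≤ RingHom.ker (φ A) := by
  have h := cU_mul_cR A
  refine Ideal.span_le.mpr ?_
  rintro q (rfl | rfl | rfl) <;> rw [SetLike.mem_coe, RingHom.mem_ker]
  · simp [φ, Q1]
    linear_combination (-((-cU A 4 * cU A 0 + (cU A 1 - cU A 5) * cU A 2) * cR A * cU A 0 +
      (-cU A 5 * cU A 0 + cU A 3 * cU A 2) * cR A * cU A 2)) * h
  · simp [φ, Q2]
    linear_combination (-(-cU A 4 * cU A 0 + (cU A 1 - cU A 5) * cU A 2)) * h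
  · simp [φ, Q3]
    linear_combination (-(-cU A 5 * cU A 0 + cU A 3 * cU A 2)) * h

theorem φ_idJ : idJ A ≤ RingHom.ker (φ A) := by
  rw [idJ_eq, sup_le_iff, Ideal.span_le, Set.singleton_subset_iff]
  refine ⟨φ_idI A, RingHom.mem_ker.mpr ?_⟩
  have h1 : L2 A ∈ idL A := Ideal.subset_span (by simp)
  have h2 := RingHom.mem_ker.mp (φ_idI A (L_mul_detM_mem A h1))
  rw [map_mul, (φ_L A).2.1] at h2
  calc φ A (detM A) = cR A * (cU A 1 * φ A (detM A)) := by
        rw [← mul_assoc, mul_comm (cR A), cU_mul_cR, one_mul]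
    _ = 0 := by rw [h2, mul_zero]

theorem exists_pow_mul_mem_idI {x : Lie3Mod.D A} (hx : φ A x = 0) :
    ∃ N : ℕ, L2 A ^ N * x ∈ idI A := by
  let mk := Ideal.Quotient.mkₐ A (idI A)
  let Dy := Localization.Away (mk (L2 A))
  let ρ : Lie3Mod.D A →ₐ[A] Dy := (IsScalarTower.toAlgHom A (Lie3Mod.D A ⧸ idI A) Dy).comp mk
  let σ : MvPolynomial (Fin 6) A →ₐ[A] Dy :=
    aeval ![ρ (L1 A), ρ (L2 A), ρ (L3 A), ρ vc, ρ ve, ρ vf]
  have hu : IsUnit (σ (X 1)) := by
    have : σ (X 1) = algebraMap (Lie3Mod.D A ⧸ idI A) Dy (mk (L2 A)) := by simp [σ, ρ]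
    rw [this]
    exact IsLocalization.Away.algebraMap_isUnit _
  let ψ : T A →ₐ[A] Dy := IsLocalization.Away.liftAlgHom (X 1 : MvPolynomial (Fin 6) A) (f := σ) hu
  have hψ : ∀ k, ψ (cU A k) = σ (X k) := fun k => IsLocalization.Away.lift_eq _ hu _
  have hs : ψ (cR A) * ρ (L2 A) = 1 := by
    have : ρ (L2 A) = ψ (cU A 1) := by rw [hψ]; simp [σ]
    rw [this, ← map_mul, mul_comm, cU_mul_cR, map_one]
  have hQ : ∀ q ∈ idI A, ρ q = 0 := fun q hq => by
    simp only [ρ, AlgHom.comp_apply, mk, Ideal.Quotient.mkₐ_eq_mk, Ideal.Quotient.eq_zero_iff_mem.mpr hq,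
      map_zero]
  obtain ⟨h1, h2, h3⟩ := Q_mem_idI A
  have hρ : ψ.comp (φ A) = ρ := by
    have e0 : ψ (cU A 0) = ρ (L1 A) := by rw [hψ]; simp [σ]
    have e1 : ψ (cU A 1) = ρ (L2 A) := by rw [hψ]; simp [σ]
    have e2 : ψ (cU A 2) = ρ (L3 A) := by rw [hψ]; simp [σ]
    have e3 : ψ (cU A 3) = ρ vc := by rw [hψ]; simp [σ]
    have e4 : ψ (cU A 4) = ρ ve := by rw [hψ]; simp [σ]
    have e5 : ψ (cU A 5) = ρ vf := by rw [hψ]; simp [σ]
    have hq1 := hQ _ h1
    have hq2 := hQ _ h2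
    have hq3 := hQ _ h3
    simp only [Q1, Q2, Q3, L1, L2, L3, map_add, map_sub, map_mul, map_neg] at e0 e1 e2 hq1 hq2 hq3 hs
    set s := ψ (cR A) with hsdef
    apply MvPolynomial.algHom_ext
    intro k
    have hi : (-(ρ vf) * (ρ va - ρ vi) + ρ vc * (ρ vd + ρ vh)) * s = ρ vi := by
      linear_combination s * hq3 + (ρ vi) * hs
    have hh : (-(ρ ve) * (ρ va - ρ vi) + (ρ vb + ρ vf - ρ vf) * (ρ vd + ρ vh)) * s = ρ vh := by
      linear_combination s * hq2 + (ρ vh) * hs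
    fin_cases k <;>
      simp only [AlgHom.comp_apply, φ, aeval_X, Matrix.cons_val, map_add, map_sub, map_mul, map_neg,
        e0, e1, e2, e3, e4, e5, ← hsdef, Fin.zero_eta, Fin.mk_one, Fin.reduceFinMk, Fin.isValue]
    · linear_combination hi
    · ring
    · linear_combination -hh
    · linear_combination (s * (ρ va - ρ vi)) * hh + (s * (ρ vd + ρ vh)) * hi + s * hq1 + (ρ vg) * hs
    · exact hh
    · exact hi
  have hx' : ρ x = 0 := by rw [← hρ, AlgHom.comp_apply, hx, map_zero]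
  obtain ⟨⟨_, N, rfl⟩, hN⟩ :=
    (IsLocalization.map_eq_zero_iff (Submonoid.powers (mk (L2 A))) Dy (mk x)).mp hx'
  refine ⟨N, Ideal.Quotient.eq_zero_iff_mem.mp ?_⟩
  rw [map_mul, map_pow]
  exact hN

theorem mem_idJ_of_pow_mul_mem {x : Lie3Mod.D A} : ∀ N : ℕ, L2 A ^ N * x ∈ idJ A → x ∈ idJ A
  | 0, h => by simpa using h
  | N + 1, h => mem_idJ_of_pow_mul_mem N (mem_idJ_of_L2_mul_mem A (by rwa [← mul_assoc, ← pow_succ']))

theorem ker_φ : RingHom.ker (φ A) = idJ A := by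
  refine le_antisymm (fun x hx => ?_) (φ_idJ A)
  obtain ⟨N, hN⟩ := exists_pow_mul_mem_idI A (RingHom.mem_ker.mp hx)
  exact mem_idJ_of_pow_mul_mem A N (idI_le_idJ A hN)

theorem isPrime_idJ [IsDomain A] : (idJ A).IsPrime := by
  have : IsDomain (T A) :=
    IsLocalization.isDomain_localization (powers_le_nonZeroDivisors_of_noZeroDivisors (X_ne_zero 1))
  rw [← ker_φ]
  exact RingHom.ker_isPrime _

end component

section line

/-- The projection to the component `L`. -/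
noncomputable def sL : Lie3Mod.D A →ₐ[A] Lie3Mod.D A :=
  aeval ![vi, -vf, vc, -vh, ve, vf, vg, vh, vi]

theorem sL_idL : idL A ≤ RingHom.ker (sL A) := by
  refine Ideal.span_le.mpr ?_
  rintro q (rfl | rfl | rfl) <;> rw [SetLike.mem_coe, RingHom.mem_ker] <;> simp [sL, L1, L2, L3]

theorem sub_sL_mem (x : Lie3Mod.D A) : x - sL A x ∈ idL A := by
  induction x using MvPolynomial.induction_on with
  | C a => simp [sL]
  | add p q hp hq => rw [map_add, add_sub_add_comm]; exact add_mem hp hq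
  | mul_X p k hp =>
    have hk : X k - sL A (X k) ∈ idL A := by
      have h1 : L1 A ∈ idL A := Ideal.subset_span (by simp)
      have h2 : L2 A ∈ idL A := Ideal.subset_span (by simp)
      have h3 : L3 A ∈ idL A := Ideal.subset_span (by simp)
      fin_cases k <;> simp [sL]
      · simpa [L1] using h1
      · simpa [L2] using h2
      · simpa [L3] using h3
    have : p * X k - sL A (p * X k) = (p - sL A p) * X k + sL A p * (X k - sL A (X k)) := by
      rw [map_mul]; ring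
    exact this ▸ add_mem (Ideal.mul_mem_right _ _ hp) (Ideal.mul_mem_left _ _ hk)

theorem mem_idL_iff {x : Lie3Mod.D A} : x ∈ idL A ↔ sL A x = 0 :=
  ⟨fun h => sL_idL A h, fun h => by simpa [h] using sub_sL_mem A x⟩

/-- weights making `c e g` leading in `-det M` on the component `L`. -/
def wgtL : Fin 9 → ℕ := ![0, 0, 1, 0, 1, 0, 1, 0, 0]

/-- empty basis -/
noncomputable def basisEmpty : WB (Fin 9) A Empty where
  w := wgtL
  G := Empty.elim
  m := Empty.elim
  lead i := i.elim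
  small i := i.elim

theorem mem_idL_of_mul_detM {x : Lie3Mod.D A} (h : x * detM A ∈ idL A) : x ∈ idL A := by
  rw [mem_idL_iff] at h ⊢
  rw [map_mul] at h
  let v : Fin 9 → ℕ := ![0, 0, 1, 0, 1, 0, 1, 0, 0]
  let l : List (ℤ × (Fin 9 → ℕ)) :=
    [(1, ![0, 0, 1, 0, 0, 0, 0, 2, 0]), (1, ![0, 0, 0, 0, 0, 2, 1, 0, 0]),
      (-1, ![0, 0, 0, 0, 1, 0, 0, 0, 2]), (2, ![0, 0, 0, 0, 0, 1, 0, 1, 1])]
  have hl : ∀ p ∈ l, ∑ k, p.2 k * wgtL k < ∑ k, v k * wgtL k := by decide
  have he : - sL A (detM A) = ofTerms A v l := by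
    simp [sL, detM, ofTerms, mon, v, l, Fin.prod_univ_succ]
    ring
  have hz : ofTerms A v l * sL A x = 0 := by rw [← he, neg_mul, mul_comm, h, neg_zero]
  have hmem := WB.mem_of_mul_mem (B := basisEmpty A) (fun i => i.elim)
    (coeff_ofTerms_self A wgtL v l hl) (fun t ht hw => coeff_ofTerms_eq_zero A wgtL v l hl t ht hw)
    (fun i => i.elim) (x := sL A x) (by rw [hz]; exact zero_mem _)
  have hempty : Set.range (basisEmpty A).G = ∅ := Set.range_eq_empty _
  rw [hempty, Ideal.span_empty] at hmem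
  exact hmem

theorem isPrime_idL [IsDomain A] : (idL A).IsPrime := by
  have : idL A = RingHom.ker (sL A) := Ideal.ext fun x => mem_idL_iff A
  rw [this]
  exact RingHom.ker_isPrime _

end line

theorem idI_eq_inf : idI A = idJ A ⊓ idL A := by
  refine le_antisymm (le_inf (idI_le_idJ A) (idI_le_idL A)) ?_
  rintro x ⟨hJ, hL⟩
  rw [SetLike.mem_coe, idJ_eq, Submodule.mem_sup] at hJ
  obtain ⟨i₀, hi₀, z, hz, rfl⟩ := hJ
  obtain ⟨y, rfl⟩ := Ideal.mem_span_singleton'.mp hz
  have h : y * detM A ∈ idL A := by simpa using sub_mem hL (idI_le_idL A hi₀)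
  exact add_mem hi₀ (L_mul_detM_mem A (mem_idL_of_mul_detM A h))

theorem colon_idL : (idI A).colon (idL A : Set (Lie3Mod.D A)) = idJ A := by
  refine le_antisymm (fun x hx => ?_) (fun x hx => ?_)
  · have h2 : L2 A ∈ idL A := Ideal.subset_span (by simp)
    have := idI_le_idJ A (Submodule.mem_colon.mp hx _ h2)
    rw [smul_eq_mul, mul_comm] at this
    exact mem_idJ_of_L2_mul_mem A this
  · refine Submodule.mem_colon.mpr fun l hl => ?_
    rw [idJ_eq, Submodule.mem_sup] at hx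
    obtain ⟨i₀, hi₀, z, hz, rfl⟩ := hx
    obtain ⟨y, rfl⟩ := Ideal.mem_span_singleton'.mp hz
    rw [smul_eq_mul, add_mul, mul_assoc, mul_comm (detM A)]
    exact add_mem (Ideal.mul_mem_right _ _ hi₀) (Ideal.mul_mem_left _ _ (L_mul_detM_mem A hl))

theorem colon_idJ : (idI A).colon (idJ A : Set (Lie3Mod.D A)) = idL A := by
  refine le_antisymm (fun x hx => ?_) (fun x hx => ?_)
  · exact mem_idL_of_mul_detM A (idI_le_idL A (Submodule.mem_colon.mp hx _ (detM_mem_idJ A)))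
  · refine Submodule.mem_colon.mpr fun j hj => ?_
    rw [SetLike.mem_coe, idJ_eq, Submodule.mem_sup] at hj
    obtain ⟨i₀, hi₀, z, hz, rfl⟩ := hj
    obtain ⟨y, rfl⟩ := Ideal.mem_span_singleton'.mp hz
    rw [smul_eq_mul, mul_add, ← mul_assoc, mul_comm x y, mul_assoc]
    exact add_mem (Ideal.mul_mem_left _ _ hi₀) (Ideal.mul_mem_left _ _ (L_mul_detM_mem A hx))

theorem idJ_mem_minimalPrimes [IsDomain A] : idJ A ∈ (idI A).minimalPrimes := by
  refine ⟨⟨isPrime_idJ A, idI_le_idJ A⟩, fun P hP hle => ?_⟩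
  obtain ⟨hPp, hIP⟩ := hP
  have hL2 : L2 A ∉ P := fun h => by
    have h1 := RingHom.mem_ker.mp (φ_idJ A (hle h))
    rw [(φ_L A).2.1] at h1
    have h0 := cU_mul_cR A
    rw [h1, zero_mul] at h0
    have : IsDomain (T A) :=
      IsLocalization.isDomain_localization (powers_le_nonZeroDivisors_of_noZeroDivisors (X_ne_zero 1))
    exact zero_ne_one h0
  have hdet : detM A ∈ P :=
    (hPp.mem_or_mem (hIP (L_mul_detM_mem A (Ideal.subset_span (by simp) : L2 A ∈ idL A)))).resolve_left hL2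
  rw [idJ_eq, sup_le_iff, Ideal.span_le, Set.singleton_subset_iff]
  exact ⟨hIP, hdet⟩

end Groth.Lie3
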