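import Groth.Agent.Lie3.Components
import Mathlib.RingTheory.Flat.TorsionFree

/-!
Flatness over `ℤ` of the scheme of 3-dimensional Lie algebras and of its second component.
-/

namespace Groth.Lie3

open MvPolynomial
open _root_.Lie3Mod

theorem C_intCast (n : ℤ) : ((n : Lie3Mod.D ℤ)) = C n := (eq_intCast (C : ℤ →+* Lie3Mod.D ℤ) n).symm

theorem intCast_notMem_idJ {n : ℤ} (hn : n ≠ 0) : (n : Lie3Mod.D ℤ) ∉ idJ ℤ := by
  intro h
  have h1 := RingHom.mem_ker.mp (φ_idJ ℤ h)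
  rw [map_intCast] at h1
  have hinj : Function.Injective (algebraMap ℤ (T ℤ)) := by
    rw [IsScalarTower.algebraMap_eq ℤ (MvPolynomial (Fin 6) ℤ) (T ℤ)]
    refine (IsLocalization.injective (T ℤ) (M := Submonoid.powers (X 1 : MvPolynomial (Fin 6) ℤ))
      (powers_le_nonZeroDivisors_of_noZeroDivisors (X_ne_zero (R := ℤ) (1 : Fin 6)))).comp ?_
    intro a b h
    simpa using h
  exact hn (hinj (by rw [eq_intCast, map_zero, h1]))

theorem intCast_notMem_idL {n : ℤ} (hn : n ≠ 0) : (n : Lie3Mod.D ℤ) ∉ idL ℤ := by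
  rw [mem_idL_iff, map_intCast, C_intCast]
  exact (map_ne_zero_iff C (C_injective _ _)).mpr hn

theorem flat_of_intCast_mul_mem (K : Ideal (Lie3Mod.D ℤ))
    (h : ∀ (n : ℤ) x, n ≠ 0 → (n : Lie3Mod.D ℤ) * x ∈ K → x ∈ K) :
    Module.Flat ℤ (Lie3Mod.D ℤ ⧸ K) := by
  rw [Module.Flat.flat_iff_torsion_eq_bot_of_isBezout, Submodule.eq_bot_iff]
  rintro z ⟨⟨n, hn⟩, hz⟩
  obtain ⟨x, rfl⟩ := Ideal.Quotient.mk_surjective z
  rw [Ideal.Quotient.eq_zero_iff_mem]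
  refine h n x (nonZeroDivisors.ne_zero hn) ?_
  rw [← Ideal.Quotient.eq_zero_iff_mem, map_mul, map_intCast, ← zsmul_eq_mul]
  exact hz

theorem flat_idJ : Module.Flat ℤ (Lie3Mod.D ℤ ⧸ idJ ℤ) :=
  flat_of_intCast_mul_mem _ fun _ _ hn hx =>
    ((isPrime_idJ ℤ).mem_or_mem hx).resolve_left (intCast_notMem_idJ hn)

theorem flat_idI : Module.Flat ℤ (Lie3Mod.D ℤ ⧸ idI ℤ) :=
  flat_of_intCast_mul_mem _ fun n x hn hx => by
    rw [idI_eq_inf, Submodule.mem_inf] at hx ⊢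
    exact ⟨((isPrime_idJ ℤ).mem_or_mem hx.1).resolve_left (intCast_notMem_idJ hn),
      ((isPrime_idL ℤ).mem_or_mem hx.2).resolve_left (intCast_notMem_idL hn)⟩

theorem isRadical_idI : (idI ℤ).IsRadical := by
  rw [idI_eq_inf]
  exact (isPrime_idJ ℤ).isRadical.inf (isPrime_idL ℤ).isRadical

end Groth.Lie3
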