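import Mathlib.RingTheory.MvPolynomial.WeightedHomogeneous
import Mathlib.Algebra.MvPolynomial.CommRing
import Mathlib.Data.Finsupp.Fintype
import Mathlib.Tactic

/-!
A Buchberger criterion for a weight order: if each `G i` has a unique monomial of maximal weight,
with coefficient `1`, and all S-polynomials have representations of lower weight, then `G` detects
leading monomials of the ideal it generates. As an application, an element whose leading monomial is
coprime to all leading monomials is a non-zero-divisor modulo the ideal.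
-/

namespace Groth.Lie3

open MvPolynomial

variable {σ R ι : Type*} [CommRing R]

/-- A weight basis. -/
structure WB (σ R ι : Type*) [CommRing R] where
  w : σ → ℕ
  G : ι → MvPolynomial σ R
  m : ι → σ →₀ ℕ
  lead : ∀ i, coeff (m i) (G i) = 1
  small : ∀ i t, t ≠ m i → Finsupp.weight w (m i) ≤ Finsupp.weight w t → coeff t (G i) = 0

variable (B : WB σ R ι)

namespace WB

/-- weight -/
noncomputable abbrev wt (t : σ →₀ ℕ) : ℕ := Finsupp.weight B.w t

/-- The products of weight less than `n`. -/
noncomputable def V (n : ℕ) : Submodule R (MvPolynomial σ R) :=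
  Submodule.span R {p | ∃ i t, B.wt t + B.wt (B.m i) < n ∧ p = monomial t 1 * B.G i}

variable {B}

theorem mem_V {n : ℕ} {i : ι} {t : σ →₀ ℕ} (h : B.wt t + B.wt (B.m i) < n) :
    monomial t 1 * B.G i ∈ B.V n := Submodule.subset_span ⟨i, t, h, rfl⟩

theorem V_mono {a b : ℕ} (h : a ≤ b) : B.V a ≤ B.V b := by
  refine Submodule.span_mono ?_
  rintro p ⟨i, t, ht, rfl⟩
  exact ⟨i, t, ht.trans_le h, rfl⟩

theorem V_le_ideal (n : ℕ) {x : MvPolynomial σ R} (h : x ∈ B.V n) :
    x ∈ Ideal.span (Set.range B.G) := by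
  induction h using Submodule.span_induction with
  | mem p hp => obtain ⟨i, t, -, rfl⟩ := hp; exact Ideal.mul_mem_left _ _ (Ideal.subset_span ⟨i, rfl⟩)
  | zero => exact zero_mem _
  | add x y _ _ hx hy => exact add_mem hx hy
  | smul a x _ hx => rw [smul_eq_C_mul]; exact Ideal.mul_mem_left _ _ hx

theorem coeff_mul_eq_zero {i : ι} {t δ : σ →₀ ℕ} (h : δ ≠ t + B.m i)
    (hw : B.wt t + B.wt (B.m i) ≤ B.wt δ) : coeff δ (monomial t 1 * B.G i) = 0 := by
  classical
  rw [coeff_monomial_mul']
  split
  · rename_i ht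
    rw [one_mul]
    refine B.small i _ (fun e => h ?_) ?_
    · rw [← e, add_tsub_cancel_of_le ht]
    · have e : B.wt δ = B.wt t + B.wt (δ - t) := by
        rw [← map_add, add_tsub_cancel_of_le ht]
      simp only [WB.wt] at e hw ⊢
      omega
  · rfl

theorem coeff_mul_self (i : ι) (t : σ →₀ ℕ) :
    coeff (t + B.m i) (monomial t 1 * B.G i) = 1 := by
  rw [coeff_monomial_mul, one_mul, B.lead]

theorem coeff_eq_zero_of_mem_V {n : ℕ} {x : MvPolynomial σ R} (h : x ∈ B.V n) {δ : σ →₀ ℕ}
    (hδ : n ≤ B.wt δ) : coeff δ x = 0 := by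
  induction h using Submodule.span_induction with
  | mem p hp =>
    obtain ⟨i, t, ht, rfl⟩ := hp
    refine coeff_mul_eq_zero (fun e => ?_) (by omega)
    rw [e] at hδ
    simp only [WB.wt, map_add] at hδ ht
    omega
  | zero => exact coeff_zero _
  | add x y _ _ hx hy => rw [coeff_add, hx, hy, add_zero]
  | smul a x _ hx => rw [coeff_smul, hx, smul_zero]

theorem monomial_mul_mem_V {n : ℕ} (r : σ →₀ ℕ) {x : MvPolynomial σ R} (h : x ∈ B.V n) :
    monomial r 1 * x ∈ B.V (B.wt r + n) := by
  induction h using Submodule.span_induction with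
  | mem p hp =>
    obtain ⟨i, t, ht, rfl⟩ := hp
    rw [← mul_assoc, monomial_mul, one_mul]
    refine mem_V ?_
    simp only [WB.wt, map_add] at ht ⊢
    omega
  | zero => rw [mul_zero]; exact zero_mem _
  | add x y _ _ hx hy => rw [mul_add]; exact add_mem hx hy
  | smul a x _ hx => rw [Algebra.mul_smul_comm]; exact Submodule.smul_mem _ _ hx

variable (B) in
/-- S-polynomials reduce to lower weight. -/
def SPairs : Prop := ∀ i j, ∃ L ti tj, ti + B.m i = L ∧ tj + B.m j = L ∧
  (∀ δ, B.m i ≤ δ → B.m j ≤ δ → L ≤ δ) ∧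
  monomial ti 1 * B.G i - monomial tj 1 * B.G j ∈ B.V (B.wt L)

theorem sub_mem_V (hS : B.SPairs) {i j : ι} {t s : σ →₀ ℕ} (e : t + B.m i = s + B.m j) :
    monomial t 1 * B.G i - monomial s 1 * B.G j ∈ B.V (B.wt (t + B.m i)) := by
  obtain ⟨L, ti, tj, hi, hj, hL, hmem⟩ := hS i j
  have hle : L ≤ t + B.m i := hL _ le_add_self (e ▸ le_add_self)
  obtain ⟨r, hr⟩ := exists_add_of_le hle
  have ht : t = r + ti := add_right_cancel (b := B.m i) (by rw [hr, add_assoc, hi, add_comm])
  have hs : s = r + tj := add_right_cancel (b := B.m j) (by rw [← e, hr, add_assoc, hj, add_comm])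
  have h1 := monomial_mul_mem_V r hmem
  rw [mul_sub, ← mul_assoc, ← mul_assoc, monomial_mul, monomial_mul, one_mul, ← ht, ← hs] at h1
  rw [hr, add_comm L r]
  simp only [WB.wt, map_add] at h1 ⊢
  exact h1

theorem mem_V_of_top_eq_zero (hS : B.SPairs) {n : ℕ} {x : MvPolynomial σ R} (hx : x ∈ B.V (n + 1))
    (h0 : ∀ δ, B.wt δ = n → coeff δ x = 0) : x ∈ B.V n := by
  classical
  let Lev : Set (ι × (σ →₀ ℕ)) := {p | B.wt p.2 + B.wt (B.m p.1) = n}
  let T : ι × (σ →₀ ℕ) → MvPolynomial σ R := fun p => monomial p.2 1 * B.G p.1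
  let deg : ι × (σ →₀ ℕ) → (σ →₀ ℕ) := fun p => p.2 + B.m p.1
  have hsplit : B.V (n + 1) ≤ B.V n ⊔ Submodule.span R (T '' Lev) := by
    refine Submodule.span_le.mpr ?_
    rintro p ⟨i, t, ht, rfl⟩
    rcases (Nat.lt_succ_iff.mp ht).lt_or_eq with h | h
    · exact Submodule.mem_sup_left (mem_V h)
    · exact Submodule.mem_sup_right (Submodule.subset_span ⟨(i, t), h, rfl⟩)
  obtain ⟨v, hv, u, hu, rfl⟩ := Submodule.mem_sup.mp (hsplit hx)
  refine add_mem hv ?_
  obtain ⟨c, hc, rfl⟩ := (Finsupp.mem_span_image_iff_linearCombination R).mp hu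
  have hcL : ∀ p ∈ c.support, B.wt p.2 + B.wt (B.m p.1) = n := fun p hp => hc hp
  rw [Finsupp.linearCombination_apply, Finsupp.sum]
  have hdeg : ∀ p ∈ c.support, B.wt (deg p) = n := fun p hp =>
    (map_add (Finsupp.weight B.w) _ _).trans (hcL p hp)
  have hfib : ∀ δ, B.wt δ = n → ∑ p ∈ c.support with deg p = δ, c p = 0 := by
    intro δ hδ
    have h1 := h0 δ hδ
    rw [coeff_add, coeff_eq_zero_of_mem_V hv hδ.ge, zero_add, Finsupp.linearCombination_apply,
      Finsupp.sum, coeff_sum] at h1
    rw [Finset.sum_filter]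
    refine Eq.trans (Finset.sum_congr rfl fun p hp => ?_) h1
    rw [coeff_smul]
    split
    · rename_i h
      rw [← h, coeff_mul_self, smul_eq_mul, mul_one]
    · rename_i h
      rw [coeff_mul_eq_zero (Ne.symm h) (by rw [hδ, hcL p hp]), smul_zero]
  rw [← Finset.sum_fiberwise_of_maps_to (g := deg) (t := c.support.image deg)
    (fun p hp => Finset.mem_image_of_mem _ hp)]
  refine Submodule.sum_mem _ fun δ hδ => ?_
  obtain ⟨p₀, hp₀, rfl⟩ := Finset.mem_image.mp hδ
  have h2 : ∑ p ∈ c.support with deg p = deg p₀, c p • T p =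
      ∑ p ∈ c.support with deg p = deg p₀, c p • (T p - T p₀) := by
    simp only [smul_sub, Finset.sum_sub_distrib, ← Finset.sum_smul, hfib _ (hdeg p₀ hp₀), zero_smul,
      sub_zero]
  rw [h2]
  refine Submodule.sum_mem _ fun p hp => Submodule.smul_mem _ _ ?_
  rw [Finset.mem_filter] at hp
  have h3 := sub_mem_V hS (hp.2 : p.2 + B.m p.1 = p₀.2 + B.m p₀.1)
  rwa [show B.wt (p.2 + B.m p.1) = n from hdeg p hp.1] at h3

theorem exists_mem_V {x : MvPolynomial σ R} (hx : x ∈ Ideal.span (Set.range B.G)) :
    ∃ n, x ∈ B.V n := by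
  suffices h : ∀ (f : MvPolynomial σ R) (i : ι), ∃ n, f * B.G i ∈ B.V n by
    induction hx using Submodule.span_induction with
    | mem p hp => obtain ⟨i, rfl⟩ := hp; simpa using h 1 i
    | zero => exact ⟨0, zero_mem _⟩
    | add x y _ _ hx hy =>
      obtain ⟨a, ha⟩ := hx
      obtain ⟨b, hb⟩ := hy
      exact ⟨max a b, add_mem (V_mono (le_max_left _ _) ha) (V_mono (le_max_right _ _) hb)⟩
    | smul f x _ hx =>
      obtain ⟨a, ha⟩ := hx
      clear h
      induction f using MvPolynomial.induction_on' with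
      | monomial t c =>
        refine ⟨B.wt t + a, ?_⟩
        rw [smul_eq_mul, show monomial t c = c • monomial t (1 : R) by rw [smul_monomial, smul_eq_mul, mul_one],
          Algebra.smul_mul_assoc]
        exact Submodule.smul_mem _ _ (monomial_mul_mem_V t ha)
      | add p q hp hq =>
        obtain ⟨b, hb⟩ := hp
        obtain ⟨c, hc⟩ := hq
        rw [add_smul]
        exact ⟨max b c, add_mem (V_mono (le_max_left _ _) hb) (V_mono (le_max_right _ _) hc)⟩
  intro f i
  induction f using MvPolynomial.induction_on' with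
  | monomial t c =>
    refine ⟨B.wt t + B.wt (B.m i) + 1, ?_⟩
    rw [show monomial t c = c • monomial t (1 : R) by rw [smul_monomial, smul_eq_mul, mul_one],
      Algebra.smul_mul_assoc]
    exact Submodule.smul_mem _ _ (mem_V (Nat.lt_succ_self _))
  | add p q hp hq =>
    obtain ⟨b, hb⟩ := hp
    obtain ⟨c, hc⟩ := hq
    rw [add_mul]
    exact ⟨max b c, add_mem (V_mono (le_max_left _ _) hb) (V_mono (le_max_right _ _) hc)⟩

/-- A monomial of maximal weight in an element of the ideal is divisible by a leading monomial. -/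
theorem exists_le_of_mem (hS : B.SPairs) {x : MvPolynomial σ R}
    (hx : x ∈ Ideal.span (Set.range B.G)) {δ : σ →₀ ℕ} (hδ : coeff δ x ≠ 0)
    (hmax : ∀ t, B.wt δ < B.wt t → coeff t x = 0) : ∃ i, B.m i ≤ δ := by
  obtain ⟨n, hn⟩ := exists_mem_V hx
  have hdown : ∀ n, B.wt δ + 1 ≤ n → x ∈ B.V n → x ∈ B.V (B.wt δ + 1) := by
    intro n hn
    induction n, hn using Nat.le_induction with
    | base => exact id
    | succ n hn ih => exact fun h => ih (mem_V_of_top_eq_zero hS h fun t ht => hmax t (by omega))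
  have h1 : x ∈ B.V (B.wt δ + 1) := hdown (max n (B.wt δ + 1)) (le_max_right _ _)
    (V_mono (le_max_left _ _) hn)
  by_contra hne
  push Not at hne
  have h2 : ∀ y ∈ B.V (B.wt δ + 1), coeff δ y = 0 := by
    intro y hy
    induction hy using Submodule.span_induction with
    | mem p hp =>
      obtain ⟨i, t, ht, rfl⟩ := hp
      exact coeff_mul_eq_zero (fun e => hne i (e ▸ le_add_self)) (Nat.lt_succ_iff.mp ht)
    | zero => exact coeff_zero _
    | add x y _ _ hx hy => rw [coeff_add, hx, hy, add_zero]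
    | smul a x _ hx => rw [coeff_smul, hx, smul_zero]
  exact hδ (h2 x h1)

/-- Standard polynomials: no monomial is divisible by a leading monomial. -/
theorem exists_normal (x : MvPolynomial σ R) : ∃ r, x - r ∈ Ideal.span (Set.range B.G) ∧
    ∀ t, coeff t r ≠ 0 → ∀ i, ¬ B.m i ≤ t := by
  classical
  suffices h : ∀ n (t : σ →₀ ℕ), B.wt t = n → ∃ r,
      monomial t (1 : R) - r ∈ Ideal.span (Set.range B.G) ∧ ∀ s, coeff s r ≠ 0 → ∀ i, ¬ B.m i ≤ s by
    rw [x.as_sum]
    choose r hr hr' using fun t => h _ t rfl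
    refine ⟨∑ t ∈ x.support, coeff t x • r t, ?_, fun s hs => ?_⟩
    · rw [← Finset.sum_sub_distrib]
      refine Submodule.sum_mem _ fun t _ => ?_
      have e : monomial t (coeff t x) - coeff t x • r t = C (coeff t x) * (monomial t 1 - r t) := by
        rw [mul_sub, C_mul_monomial, mul_one, smul_eq_C_mul]
      exact e ▸ Ideal.mul_mem_left _ _ (hr t)
    · rw [coeff_sum] at hs
      obtain ⟨t, -, ht⟩ := Finset.exists_ne_zero_of_sum_ne_zero hs
      rw [coeff_smul] at ht
      exact hr' t s fun h => ht (by rw [h, smul_zero])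
  intro n
  induction n using Nat.strong_induction_on with
  | _ n ih =>
    intro t hn
    by_cases hdiv : ∃ i, B.m i ≤ t
    · obtain ⟨i, hi⟩ := hdiv
      obtain ⟨u, rfl⟩ := exists_add_of_le hi
      set rest := monomial u 1 * B.G i - monomial (B.m i + u) (1 : R)
      have hlow : ∀ s, coeff s rest ≠ 0 → B.wt s < n := by
        intro s hs
        by_contra hge
        push Not at hge
        apply hs
        rw [coeff_sub, coeff_monomial]
        split
        · rename_i h
          rw [← h, add_comm (B.m i), coeff_mul_self, sub_self]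
        · rename_i h
          rw [coeff_mul_eq_zero (fun e => h (by rw [e, add_comm])), sub_zero]
          simp only [WB.wt, map_add] at hn hge ⊢
          omega
      have : ∀ s, ∃ r, coeff s rest • monomial s (1 : R) - r ∈ Ideal.span (Set.range B.G) ∧
          ∀ s', coeff s' r ≠ 0 → ∀ i, ¬ B.m i ≤ s' := by
        intro s
        by_cases hs : coeff s rest = 0
        · exact ⟨0, by simp [hs], by simp⟩
        · obtain ⟨r, h1, h2⟩ := ih _ (hlow s hs) s rfl
          refine ⟨coeff s rest • r, ?_, fun s' hs' => h2 s' fun h => hs' ?_⟩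
          · rw [← smul_sub, smul_eq_C_mul]
            exact Ideal.mul_mem_left _ _ h1
          · rw [coeff_smul, h, smul_zero]
      choose r hr hr' using this
      refine ⟨-∑ s ∈ rest.support, r s, ?_, fun s hs => ?_⟩
      · have e : monomial (B.m i + u) (1 : R) - -∑ s ∈ rest.support, r s =
            monomial u 1 * B.G i - ∑ s ∈ rest.support, (coeff s rest • monomial s (1 : R) - r s) := by
          rw [Finset.sum_sub_distrib]
          simp only [smul_monomial, smul_eq_mul, mul_one, ← rest.as_sum]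
          simp only [rest]
          abel
        rw [e]
        exact sub_mem (Ideal.mul_mem_left _ _ (Ideal.subset_span ⟨i, rfl⟩))
          (Submodule.sum_mem _ fun s _ => hr s)
      · rw [coeff_neg, coeff_sum, neg_ne_zero] at hs
        obtain ⟨s', -, h'⟩ := Finset.exists_ne_zero_of_sum_ne_zero hs
        exact hr' s' s h'
    · refine ⟨monomial t 1, by simp, fun s hs i hi => hdiv ⟨i, ?_⟩⟩
      rw [coeff_monomial] at hs
      split at hs
      · rename_i h; exact h ▸ hi
      · exact absurd rfl hs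

/-- An element with leading monomial coprime to all leading monomials is regular modulo the ideal. -/
theorem mem_of_mul_mem (hS : B.SPairs) {y x : MvPolynomial σ R} {μ : σ →₀ ℕ}
    (hμ : coeff μ y = 1) (hy : ∀ t, t ≠ μ → B.wt μ ≤ B.wt t → coeff t y = 0)
    (hdisj : ∀ i s, μ s = 0 ∨ B.m i s = 0) (hx : y * x ∈ Ideal.span (Set.range B.G)) :
    x ∈ Ideal.span (Set.range B.G) := by
  classical
  obtain ⟨r, hr, hstd⟩ := exists_normal (B := B) x
  suffices h : r = 0 by rwa [h, sub_zero] at hr
  have hyr : y * r ∈ Ideal.span (Set.range B.G) := by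
    have := sub_mem hx (Ideal.mul_mem_left _ y hr)
    rwa [← mul_sub, sub_sub_cancel] at this
  by_contra hne
  obtain ⟨e, he, hemax⟩ := r.support.exists_max_image B.wt (support_nonempty.mpr hne)
  have hr0 : ∀ t, B.wt e < B.wt t → coeff t r = 0 := by
    intro t ht
    by_contra h
    exact (hemax t (mem_support_iff.mpr h)).not_gt ht
  have htop : coeff (μ + e) (y * r) = coeff e r := by
    rw [coeff_mul, Finset.sum_eq_single (μ, e)]
    · rw [hμ, one_mul]
    · rintro ⟨a, b⟩ hab hne'
      rw [Finset.mem_antidiagonal] at hab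
      have hw : B.wt a + B.wt b = B.wt μ + B.wt e := by simp only [WB.wt, ← map_add, hab]
      rcases eq_or_ne a μ with rfl | ha
      · exact absurd (show (a, b) = (a, e) from Prod.ext rfl (add_left_cancel hab)) hne'
      · rcases le_or_gt (B.wt μ) (B.wt a) with h | h
        · rw [hy a ha h, zero_mul]
        · rw [hr0 b (by omega), mul_zero]
    · intro h
      rw [Finset.mem_antidiagonal] at h
      exact (h rfl).elim
  obtain ⟨i, hi⟩ := exists_le_of_mem hS hyr (δ := μ + e) (by rw [htop]; exact mem_support_iff.mp he) (by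
    intro t ht
    rw [coeff_mul]
    refine Finset.sum_eq_zero fun ⟨a, b⟩ hab => ?_
    rw [Finset.mem_antidiagonal] at hab
    have hw : B.wt a + B.wt b = B.wt t := by simp only [WB.wt, ← map_add, hab]
    have hwt : B.wt (μ + e) = B.wt μ + B.wt e := map_add (Finsupp.weight B.w) μ e
    rcases eq_or_ne a μ with rfl | ha
    · rw [hr0 b (by omega), mul_zero]
    · rcases le_or_gt (B.wt μ) (B.wt a) with h | h
      · rw [hy a ha h, zero_mul]
      · rw [hr0 b (by omega), mul_zero])
  refine hstd e (mem_support_iff.mp he) i fun s => ?_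
  rcases hdisj i s with h | h
  · simpa [h] using hi s
  · simp [h]

end WB

end Groth.Lie3
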